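import Mathlib
import Cfsg.Agent.Lib.Phan.Defs

/-!
# Simple connectivity of the orthogonality graph on unit vectors of a unitary space
-/

set_option autoImplicit false

namespace CfsgLib.Phan
open Cfsg CfsgLib.Unitary CfsgLib.Forms Polynomial

variable {F : Type*} [Field F] {q n : ℕ}

local notation "⟪" u ", " v "⟫" => hermForm n F q u v

/-- Two unit vectors span a non-degenerate plane. -/
def Col (q : ℕ) (x y : Fin n → F) : Prop := hermForm n F q x y * hermForm n F q y x ≠ 1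

theorem Col.symm {x y : Fin n → F} (h : Col q x y) : Col q y x := fun e => h ((mul_comm _ _).trans e)

theorem col_of_perp {x y : Fin n → F} (h : ⟪x, y⟫ = 0) : Col q x y := by simp [Col, h]

variable [Fintype F] (hF : Fintype.card F = q ^ 2)
include hF

theorem perp_symm {x y : Fin n → F} (h : ⟪x, y⟫ = 0) : ⟪y, x⟫ = 0 := (herm_eq_zero_comm hF).1 h

theorem on_two {a b : Fin n → F} (ha : ⟪a, a⟫ = 1) (hb : ⟪b, b⟫ = 1) (h : ⟪a, b⟫ = 0) :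
    ON q ![a, b] :=
  ⟨by simp [Fin.forall_fin_two, ha, hb], by simp [Fin.forall_fin_two, h, perp_symm hF h]⟩

theorem on_three {a b c : Fin n → F} (ha : ⟪a, a⟫ = 1) (hb : ⟪b, b⟫ = 1) (hc : ⟪c, c⟫ = 1)
    (h1 : ⟪a, b⟫ = 0) (h2 : ⟪a, c⟫ = 0) (h3 : ⟪b, c⟫ = 0) : ON q ![a, b, c] :=
  ⟨by simp [Fin.forall_fin_succ, ha, hb, hc], by
    simp [Fin.forall_fin_succ, h1, h2, h3, perp_symm hF h1, perp_symm hF h2, perp_symm hF h3]⟩

theorem exists_perp_two (hn : 3 ≤ n) {a b : Fin n → F} (ha : ⟪a, a⟫ = 1) (hb : ⟪b, b⟫ = 1)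
    (h : ⟪a, b⟫ = 0) : ∃ u, ⟪u, u⟫ = 1 ∧ ⟪u, a⟫ = 0 ∧ ⟪u, b⟫ = 0 := by
  obtain ⟨u, h1, h2⟩ := (on_two hF ha hb h).exists_unit hF (by simp; omega)
  exact ⟨u, h1, h2 0, h2 1⟩

theorem exists_perp_three (hn : 4 ≤ n) {a b c : Fin n → F} (ha : ⟪a, a⟫ = 1) (hb : ⟪b, b⟫ = 1)
    (hc : ⟪c, c⟫ = 1) (h1 : ⟪a, b⟫ = 0) (h2 : ⟪a, c⟫ = 0) (h3 : ⟪b, c⟫ = 0) :
    ∃ u, ⟪u, u⟫ = 1 ∧ ⟪u, a⟫ = 0 ∧ ⟪u, b⟫ = 0 ∧ ⟪u, c⟫ = 0 := by
  obtain ⟨u, h4, h5⟩ := (on_three hF ha hb hc h1 h2 h3).exists_unit hF (by simp; omega)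
  exact ⟨u, h4, h5 0, h5 1, h5 2⟩

theorem exists_perp_vec (hn : 4 ≤ n) {a : Fin n → F} (ha : ⟪a, a⟫ = 1) (v : Fin n → F) :
    ∃ u, ⟪u, u⟫ = 1 ∧ ⟪u, a⟫ = 0 ∧ ⟪u, v⟫ = 0 := by
  obtain ⟨u, h1, h2, h3⟩ := ON.exists_unit_vec hF (u := fun _ : Unit => a)
    ⟨fun _ => ha, fun _ _ h => absurd rfl h⟩ (by simpa using hn) v
  exact ⟨u, h1, h3 (), h2⟩

theorem exists_perp_two_vec (hn : 5 ≤ n) {a b : Fin n → F} (ha : ⟪a, a⟫ = 1) (hb : ⟪b, b⟫ = 1)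
    (h : ⟪a, b⟫ = 0) (v : Fin n → F) : ∃ u, ⟪u, u⟫ = 1 ∧ ⟪u, a⟫ = 0 ∧ ⟪u, b⟫ = 0 ∧ ⟪u, v⟫ = 0 := by
  obtain ⟨u, h1, h2, h3⟩ := (on_two hF ha hb h).exists_unit_vec hF (by simpa using hn) v
  exact ⟨u, h1, h3 0, h3 1, h2⟩

/-- Gram–Schmidt for a non-degenerate plane. -/
theorem Col.exists_on {a b : Fin n → F} (h : Col q b a) (ha : ⟪a, a⟫ = 1) (hb : ⟪b, b⟫ = 1) :
    ∃ (c : Fin n → F) (s t : F), ⟪c, c⟫ = 1 ∧ ⟪c, a⟫ = 0 ∧ b = s • a + t • c ∧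
      ∀ w, ⟪w, a⟫ = 0 → ⟪w, b⟫ = 0 → ⟪w, c⟫ = 0 := by
  obtain ⟨c, hc0, hc⟩ := exists_unit_smul hF (v := b - ⟪b, a⟫ • a) (by
    simp only [herm_sub_left, herm_sub_right hF, herm_smul_left, herm_smul_right, herm_conj hF, ha, hb]
    intro e; exact h (by linear_combination -e))
  refine ⟨_, ⟪b, a⟫, c⁻¹, hc, ?_, by simp [smul_smul, hc0], fun w h1 h2 => ?_⟩
  · simp [herm_sub_left, herm_smul_left, ha]
  · simp [herm_sub_right hF, herm_smul_right, h1, h2]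

theorem exists_perp_of_ne (hn : 4 ≤ n) {a d c : Fin n → F} (ha : ⟪a, a⟫ = 1) (hd : ⟪d, d⟫ = 1)
    (had : ⟪a, d⟫ = 0) (h : ⟪c, c⟫ - ⟪c, a⟫ * ⟪a, c⟫ - ⟪c, d⟫ * ⟪d, c⟫ ≠ 0) :
    ∃ u, ⟪u, u⟫ = 1 ∧ ⟪u, a⟫ = 0 ∧ ⟪u, d⟫ = 0 ∧ ⟪u, c⟫ = 0 := by
  have hda := perp_symm hF had
  obtain ⟨t, ht0, ht⟩ := exists_unit_smul hF (v := c - ⟪c, a⟫ • a - ⟪c, d⟫ • d) (by
    simp only [herm_sub_left, herm_sub_right hF, herm_smul_left, herm_smul_right, herm_conj hF, ha, hd,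
      had, hda]
    intro e; exact h (by linear_combination e))
  obtain ⟨u, h1, h2, h3, h4⟩ := exists_perp_three hF hn ha hd ht had
    (perp_symm hF (by simp [herm_sub_left, herm_smul_left, ha, hda]))
    (perp_symm hF (by simp [herm_sub_left, herm_smul_left, hd, had]))
  refine ⟨u, h1, h2, h3, ?_⟩
  simpa [herm_sub_right hF, herm_smul_right, h2, h3, ht0] using h4

/-- An isotropic vector outside a subspace orthogonal to it has partners of every norm. -/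
theorem exists_partner_norm {r : Fin n → F} (hr : ⟪r, r⟫ = 0) {S : Set (Fin n → F)}
    (hS : r ∉ Submodule.span F S) (hrS : ∀ v ∈ S, ⟪r, v⟫ = 0) {c : F} (hc : c ^ q = c) :
    ∃ s, ⟪s, s⟫ = c ∧ ⟪r, s⟫ = 1 ∧ ⟪s, r⟫ = 1 ∧ ∀ v ∈ S, ⟪s, v⟫ = 0 := by
  obtain ⟨s, h1, h2⟩ := (uPQ hF n).exists_dual_vec (uPQ_nondeg hF n) _ hS
  rw [uPQ_B] at h1
  have h3 : ⟪s, r⟫ = 1 := by rw [← herm_conj hF, h1, one_pow]
  obtain ⟨t, ht⟩ := exists_trace_eq hF (μ := c - ⟪s, s⟫) (by rw [sub_pow_q hF, hc, herm_conj hF])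
  refine ⟨s + t • r, ?_, ?_, ?_, fun v hv => ?_⟩
  · simp only [herm_add_left, herm_add_right hF, herm_smul_left, herm_smul_right, h1, h3, hr]
    linear_combination ht
  · simp [herm_add_right hF, herm_smul_right, h1, hr]
  · simp [herm_add_left, herm_smul_left, h3, hr]
  · rw [herm_add_left, herm_smul_left, hrS v hv,
      perp_symm hF (h2 v (Submodule.subset_span hv))]; simp

theorem exists_poly {a b : Fin n → F} (ha : ⟪a, a⟫ = 1) (hb : ⟪b, b⟫ = 1) (hab : Col q a b)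
    (c : Fin n → F) : ∃ P : F[X], P ≠ 0 ∧ P.natDegree ≤ q + 1 ∧
      ∀ t, P.eval t = ⟪a + t • b, a + t • b⟫ - ⟪a + t • b, c⟫ * ⟪c, a + t • b⟫ := by
  have hq := two_le_q hF
  refine ⟨C (1 - ⟪a, c⟫ * ⟪c, a⟫) + C (⟪b, a⟫ - ⟪b, c⟫ * ⟪c, a⟫) * X +
    C (⟪a, b⟫ - ⟪a, c⟫ * ⟪c, b⟫) * X ^ q + C (1 - ⟪b, c⟫ * ⟪c, b⟫) * X ^ (q + 1), fun h => ?_,
    by compute_degree!, fun t => ?_⟩
  · have h0 := congrArg (coeff · 0) h
    have h1 := congrArg (coeff · 1) h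
    have h2 := congrArg (coeff · q) h
    have h3 := congrArg (coeff · (q + 1)) h
    simp only [coeff_add, coeff_C, coeff_C_mul, coeff_X, coeff_X_pow, coeff_zero] at h0 h1 h2 h3
    simp only [show ¬ (0 = q) by omega, show ¬ (1 = q) by omega, show ¬ (q = 0) by omega,
      show ¬ (1 = q + 1) by omega, show ¬ (0 = q + 1) by omega, show ¬ (q + 1 = 0) by omega,
      show ¬ (q + 1 = q) by omega, show ¬ (q = q + 1) by omega, one_ne_zero, if_true, if_false,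
      mul_zero, mul_one, add_zero, zero_add, sub_eq_zero] at h0 h1 h2 h3
    exact hab (by rw [h1, h2]; linear_combination -h0 - (⟪a, c⟫ * ⟪c, a⟫) * h3)
  · simp only [eval_add, eval_mul, eval_C, eval_X, eval_pow, herm_add_left, herm_add_right hF,
      herm_smul_left, herm_smul_right, ha, hb]
    ring

theorem exists_line {a b : Fin n → F} (ha : ⟪a, a⟫ = 1) (hb : ⟪b, b⟫ = 1) (hab : Col q a b)
    (c d : Fin n → F) (hq : 3 < q ∨ (2 < q ∧ d = 0)) : ∃ (f : Fin n → F) (s t : F), ⟪f, f⟫ = 1 ∧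
      s ≠ 0 ∧ f = s • a + t • b ∧ Col q f c ∧ Col q f d := by
  obtain ⟨P, h1, h2, h3⟩ := exists_poly hF ha hb hab 0
  obtain ⟨Q, h4, h5, h6⟩ := exists_poly hF ha hb hab c
  obtain ⟨R, h7, h8, h9⟩ := exists_poly hF ha hb hab d
  obtain ⟨t, ht⟩ : ∃ t, P.eval t ≠ 0 ∧ Q.eval t ≠ 0 ∧ R.eval t ≠ 0 := by
    by_contra! h
    rcases hq with hq | ⟨hq, rfl⟩
    · refine mul_ne_zero (mul_ne_zero h1 h4) h7 (eq_zero_of_natDegree_lt_card_of_eval_eq_zero _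
        Function.injective_id (fun t => ?_) ?_)
      · simpa [or_iff_not_imp_left] using fun h' : ¬ (P.eval t = 0 ∨ Q.eval t = 0) =>
          h t (fun e => h' (Or.inl e)) fun e => h' (Or.inr e)
      · have := natDegree_mul_le (p := P * Q) (q := R)
        have := natDegree_mul_le (p := P) (q := Q)
        rw [hF]; nlinarith
    · refine mul_ne_zero h1 h4 (eq_zero_of_natDegree_lt_card_of_eval_eq_zero _
        Function.injective_id (fun t => ?_) ?_)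
      · by_contra h'
        simp only [id, eval_mul, mul_eq_zero, not_or] at h'
        exact h'.1 (by rw [h3, ← h9, h t h'.1 h'.2])
      · have := natDegree_mul_le (p := P) (q := Q)
        rw [hF]; nlinarith
  rw [h3, h6, h9, herm_zero_left, mul_zero, sub_zero] at ht
  obtain ⟨s, hs0, hs⟩ := exists_unit_smul hF ht.1
  have key : ∀ c, ⟪a + t • b, a + t • b⟫ - ⟪a + t • b, c⟫ * ⟪c, a + t • b⟫ ≠ 0 →
      Col q (s • (a + t • b)) c := fun c h e => h (by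
    rw [herm_smul_left, herm_smul_right] at hs e
    exact mul_left_cancel₀ (mul_ne_zero hs0 (pow_ne_zero q hs0)) (by linear_combination hs - e))
  exact ⟨_, s, s * t, hs, hs0, by rw [smul_add, smul_smul], key c ht.2.1, key d ht.2.2⟩

theorem col_of_line {a b f : Fin n → F} (ha : ⟪a, a⟫ = 1) (hb : ⟪b, b⟫ = 1) (hab : Col q a b)
    {s t : F} (hs : s ≠ 0) (hf : ⟪f, f⟫ = 1) (e : f = s • a + t • b) : Col q f b := by
  intro h
  subst e
  simp only [herm_add_left, herm_add_right hF, herm_smul_left, herm_smul_right, ha, hb] at hf h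
  exact hab (mul_left_cancel₀ (mul_ne_zero hs (pow_ne_zero q hs)) (by linear_combination h - hf))

omit hF in
/-- A covering of the orthogonality graph with liftable triangles and squares. -/
structure Cov (q : ℕ) {Y : Type*} (p : Y → Fin n → F) (A : Y → Y → Prop) : Prop where
  unit : ∀ y, hermForm n F q (p y) (p y) = 1
  perp : ∀ {y y'}, A y y' → hermForm n F q (p y) (p y') = 0
  ex : ∀ y x, hermForm n F q x x = 1 → hermForm n F q x (p y) = 0 → ∃ y', A y y' ∧ p y' = x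
  uniq : ∀ {y y₁ y₂}, A y y₁ → A y y₂ → p y₁ = p y₂ → y₁ = y₂
  symm : ∀ {y y'}, A y y' → A y' y
  tri : ∀ {y y₁ y₂}, A y y₁ → A y y₂ → hermForm n F q (p y₁) (p y₂) = 0 → A y₁ y₂
  sq : ∀ {y w w' x}, A y w → A y w' → A w x → ∀ (a : Fin n → F) (s t : F),
    hermForm n F q a a = 1 → hermForm n F q a (p y) = 0 → p x = s • p y + t • a →
    hermForm n F q (p w) a = 0 → hermForm n F q (p w') a = 0 → A w' x

omit hF in
/-- Squares with two opposite corners in a non-degenerate three-dimensional subspace lift. -/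
def Sq3 (q : ℕ) {Y : Type*} (p : Y → Fin n → F) (A : Y → Y → Prop) : Prop :=
  ∀ {y w w' x}, A y w → A y w' → A w x → ∀ (a b : Fin n → F) (s t u : F),
    hermForm n F q a a = 1 → hermForm n F q b b = 1 → hermForm n F q a (p y) = 0 →
    hermForm n F q b (p y) = 0 → hermForm n F q a b = 0 → p x = s • p y + t • a + u • b →
    hermForm n F q (p w) a = 0 → hermForm n F q (p w') a = 0 →
    hermForm n F q (p w) b = 0 → hermForm n F q (p w') b = 0 → A w' x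

namespace Cov

variable {Y : Type*} {p : Y → Fin n → F} {A : Y → Y → Prop} (h : Cov q p A)
include h

theorem sq' {y w w' x : Y} (h1 : A y w) (h2 : A y w') (h3 : A w x) (h4 : ⟪p w', p x⟫ = 0)
    (h5 : Col q (p x) (p y)) : A w' x := by
  obtain ⟨c, s, t, e1, e2, e3, e4⟩ := h5.exists_on hF (h.unit y) (h.unit x)
  exact h.sq h1 h2 h3 c s t e1 e2 e3 (e4 _ (h.perp (h.symm h1)) (h.perp h3))
    (e4 _ (h.perp (h.symm h2)) h4)

omit hF [Fintype F] in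
theorem cone {y w w' x : Y} (h1 : A y w) (h2 : A y w') (h3 : A w x) (h4 : ⟪p w', p x⟫ = 0)
    {u : Fin n → F} (hu : ⟪u, u⟫ = 1) (e1 : ⟪u, p y⟫ = 0) (e2 : ⟪u, p x⟫ = 0) (e3 : ⟪u, p w⟫ = 0)
    (e4 : ⟪u, p w'⟫ = 0) : A w' x := by
  obtain ⟨z, hz, rfl⟩ := h.ex y u hu e1
  exact h.tri (h.tri hz h2 e4) (h.tri (h.symm (h.tri hz h1 e3)) h3 e2) h4

theorem wd (hs : Sq3 q p A) (hn : 5 ≤ n) {y w w' x : Y} (h1 : A y w) (h2 : A y w') (h3 : A w x)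
    (h4 : ⟪p w', p x⟫ = 0) : A w' x := by
  by_cases c1 : Col q (p x) (p y)
  · exact h.sq' hF h1 h2 h3 h4 c1
  by_cases c2 : Col q (p w') (p w)
  · exact h.symm (h.sq' hF (h.symm h1) h3 h2 (perp_symm hF h4) c2)
  rw [Col, not_not] at c1 c2
  have e1 := h.perp h1
  have e2 := h.perp h2
  have e3 := h.perp h3
  have e1' := perp_symm hF e1
  have e2' := perp_symm hF e2
  have e3' := perp_symm hF e3
  have e4' := perp_symm hF h4
  obtain ⟨r, hr⟩ : ∃ r, r = p x - ⟪p x, p y⟫ • p y := ⟨_, rfl⟩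
  obtain ⟨r', hr'⟩ : ∃ r', r' = p w' - ⟪p w', p w⟫ • p w := ⟨_, rfl⟩
  have r1 : ⟪r, p y⟫ = 0 := by simp [hr, herm_sub_left, herm_smul_left, h.unit]
  have r2 : ⟪r, p w⟫ = 0 := by simp [hr, herm_sub_left, herm_smul_left, e1, e3']
  have r3 : ⟪r, p w'⟫ = 0 := by simp [hr, herm_sub_left, herm_smul_left, e2, e4']
  have r4 : ⟪r, r'⟫ = 0 := by simp [hr', herm_sub_right hF, herm_smul_right, r2, r3]
  have r5 : ⟪r, r⟫ = 0 := by
    nth_rewrite 2 [hr]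
    rw [herm_sub_right hF, herm_smul_right, r1, hr, herm_sub_left, herm_smul_left, h.unit, c1]
    simp
  have hx : p x = ⟪p x, p y⟫ • p y + r := by simp [hr]
  have hw : p w' = ⟪p w', p w⟫ • p w + r' := by simp [hr']
  by_cases c3 : r ∈ Submodule.span F {p y, p w, r'}
  · obtain ⟨u, hu, u1, u2, u3⟩ := exists_perp_two_vec hF hn (h.unit y) (h.unit w) e1 r'
    refine h.cone h1 h2 h3 h4 hu u1 ?_ u2 ?_
    · have := (uPQ hF n).mem_perp_span.2 (show ∀ v ∈ ({p y, p w, r'} : Set _),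
        (uPQ hF n).B v u = 0 by simp [uPQ_B, u1, u2, u3]) r c3
      rw [hx, herm_add_right hF, herm_smul_right, u1, ← uPQ_B hF n r, this]; simp
    · rw [hw, herm_add_right hF, herm_smul_right, u2, u3]; simp
  obtain ⟨a, a1, a2, a3, a4⟩ := exists_partner_norm hF r5 c3 (by simp [r1, r2, r4]) (one_pow q)
  simp only [Set.mem_insert_iff, Set.mem_singleton_iff, forall_eq_or_imp, forall_eq] at a4
  obtain ⟨a4, a5, a6⟩ := a4
  have a7 : ⟪a, p w'⟫ = 0 := by rw [hw, herm_add_right hF, herm_smul_right, a5, a6]; simp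
  obtain ⟨c, hc0, hc⟩ := exists_unit_smul hF (v := r - a) (by
    simp [herm_sub_left, herm_sub_right hF, r5, a1, a2, a3])
  refine hs h1 h2 h3 a _ ⟪p x, p y⟫ 1 c⁻¹ a1 hc a4 ?_ ?_ ?_ (perp_symm hF a5) (perp_symm hF a7)
    (perp_symm hF ?_) (perp_symm hF ?_)
  · simp [herm_smul_left, herm_sub_left, r1, a4]
  · simp [herm_smul_right, herm_sub_right hF, a1, a3]
  · simp [smul_smul, hc0, hr]
  · simp [herm_smul_left, herm_sub_left, r2, a5]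
  · simp [herm_smul_left, herm_sub_left, r3, a7]

theorem eq_of_reach_five (hs : Sq3 q p A) (hn : 5 ≤ n) {y x : Y} (hx : Relation.ReflTransGen A y x)
    (e : p x = p y) : x = y := by
  have key : ∃ w, A y w ∧ A w x := by
    clear e
    induction hx with
    | refl =>
      obtain ⟨u, hu, h1, -⟩ := exists_perp_vec hF (by omega) (h.unit y) 0
      obtain ⟨w, hw, -⟩ := h.ex y u hu h1
      exact ⟨w, hw, h.symm hw⟩
    | @tail x x' _ h2 ih =>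
      obtain ⟨w, h3, h4⟩ := ih
      obtain ⟨u, hu, u1, u2, u3⟩ := exists_perp_two_vec hF hn (h.unit x) (h.unit x') (h.perp h2) (p y)
      obtain ⟨w', hw', rfl⟩ := h.ex y u hu u3
      exact ⟨w', hw', h.tri (h.symm (h.wd hF hs hn h3 hw' h4 u1)) h2 u2⟩
  obtain ⟨w, h1, h2⟩ := key
  exact h.uniq h2 (h.symm h1) e

end Cov

omit hF in
/-- Collinearity in the cover. -/
def CL (q : ℕ) {Y : Type*} (p : Y → Fin n → F) (A : Y → Y → Prop) (y x : Y) : Prop :=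
  Col q (p y) (p x) ∧ ∃ w, A y w ∧ A w x

omit hF in
/-- Triangles over `a, b, c` lift. -/
def Tri (q : ℕ) {Y : Type*} (p : Y → Fin n → F) (A : Y → Y → Prop) (a b c : Fin n → F) : Prop :=
  ∀ y x₁ x₂, p y = a → p x₁ = b → p x₂ = c → CL q p A y x₁ → CL q p A y x₂ → CL q p A x₁ x₂

namespace Cov

variable {Y : Type*} {p : Y → Fin n → F} {A : Y → Y → Prop} (h : Cov q p A)
include h

omit hF [Fintype F] in
theorem cl_symm {y x : Y} (h1 : CL q p A y x) : CL q p A x y :=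
  let ⟨h2, w, h3, h4⟩ := h1; ⟨h2.symm, w, h.symm h4, h.symm h3⟩

theorem cl_uniq {y x₁ x₂ : Y} (h1 : CL q p A y x₁) (h2 : CL q p A y x₂) (e : p x₁ = p x₂) :
    x₁ = x₂ := by
  obtain ⟨c1, w, h3, h4⟩ := h1
  obtain ⟨-, w', h5, h6⟩ := h2
  exact h.uniq (h.sq' hF h3 h5 h4 (e ▸ h.perp h6) c1.symm) h6 e

theorem tri_good {a b c u : Fin n → F} (hbc : Col q b c) (hu : ⟪u, u⟫ = 1) (u1 : ⟪u, a⟫ = 0)
    (u2 : ⟪u, b⟫ = 0) (u3 : ⟪u, c⟫ = 0) : Tri q p A a b c := by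
  rintro y x₁ x₂ rfl rfl rfl ⟨c1, w, h1, h2⟩ ⟨c2, w', h3, h4⟩
  obtain ⟨z, hz, rfl⟩ := h.ex y u hu u1
  exact ⟨hbc, z, h.symm (h.sq' hF h1 hz h2 u2 c1.symm), h.sq' hF h3 hz h4 u3 c2.symm⟩

omit hF [Fintype F] in
theorem tri_swap {a b c : Fin n → F} (h1 : Tri q p A a b c) : Tri q p A a c b :=
  fun y x₁ x₂ e1 e2 e3 h2 h3 => h.cl_symm (h1 y x₂ x₁ e1 e3 e2 h3 h2)

variable (hn : 4 ≤ n)
include hn

theorem cl_ex (y : Y) {c : Fin n → F} (hc : ⟪c, c⟫ = 1) (h1 : Col q (p y) c) :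
    ∃ x, CL q p A y x ∧ p x = c := by
  obtain ⟨u, hu, u1, u2⟩ := exists_perp_vec hF hn (h.unit y) c
  obtain ⟨w, hw, rfl⟩ := h.ex y u hu u1
  obtain ⟨x, hx, rfl⟩ := h.ex w c hc (perp_symm hF u2)
  exact ⟨x, ⟨h1, w, hw, hx⟩, rfl⟩

theorem cl_of_adj {y x : Y} (h1 : A y x) : CL q p A y x := by
  obtain ⟨u, hu, u1, u2⟩ := exists_perp_two hF (by omega) (h.unit y) (h.unit x) (h.perp h1)
  obtain ⟨w, hw, rfl⟩ := h.ex y u hu u1
  exact ⟨col_of_perp (h.perp h1), w, hw, h.tri hw h1 u2⟩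

theorem tri_swap' {a b c : Fin n → F} (hac : Col q a c) (h1 : Tri q p A a b c) :
    Tri q p A b a c := by
  rintro y x₁ x₂ rfl rfl rfl h2 h3
  obtain ⟨x, hx, e⟩ := h.cl_ex hF hn x₁ (h.unit x₂) hac
  rwa [← h.cl_uniq hF (h1 x₁ y x rfl rfl e (h.cl_symm h2) hx) h3 e]

theorem tri_trans {a b c d : Fin n → F} (hd : ⟪d, d⟫ = 1) (had : Col q a d) (h1 : Tri q p A a d b)
    (h2 : Tri q p A a d c) (h3 : Tri q p A d b c) : Tri q p A a b c := by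
  rintro y x₁ x₂ rfl rfl rfl h4 h5
  obtain ⟨z, hz, rfl⟩ := h.cl_ex hF hn y hd had
  exact h3 z x₁ x₂ rfl rfl rfl (h1 y z x₁ rfl rfl rfl hz h4) (h2 y z x₂ rfl rfl rfl hz h5)

theorem tri_apex {a b c : Fin n → F} (ha : ⟪a, a⟫ = 1) (hb : ⟪b, b⟫ = 1) (hc : ⟪c, c⟫ = 1)
    (hab : Col q a b) (hbc : Col q b c) {ν : F} (hν : ν ^ q = ν) (h0 : ν ≠ 0) (h1 : ν ≠ 1)
    (h2 : ν ≠ 1 - ⟪c, a⟫ * ⟪a, c⟫) (h3 : ν ≠ 1 - ⟪c, b⟫ * ⟪b, c⟫) : Tri q p A a b c := by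
  obtain ⟨b₁, s, t, e1, e2, e3, -⟩ := hab.symm.exists_on hF ha hb
  have e2' := perp_symm hF e2
  have hb' : ∀ u, ⟪u, a⟫ = 0 → ⟪u, b₁⟫ = 0 → ⟪u, b⟫ = 0 := fun u u1 u2 => by
    rw [e3, herm_add_right hF, herm_smul_right, herm_smul_right, u1, u2]; simp
  by_cases c1 : ⟪c, c⟫ - ⟪c, a⟫ * ⟪a, c⟫ - ⟪c, b₁⟫ * ⟪b₁, c⟫ = 0
  swap
  · obtain ⟨u, hu, u1, u2, u3⟩ := exists_perp_of_ne hF hn ha e1 e2' c1
    exact h.tri_good hF hbc hu u1 (hb' u u1 u2) u3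
  obtain ⟨r, hr⟩ : ∃ r, r = c - ⟪c, a⟫ • a - ⟪c, b₁⟫ • b₁ := ⟨_, rfl⟩
  have hc' : c = r + ⟪c, a⟫ • a + ⟪c, b₁⟫ • b₁ := by rw [hr]; abel
  have r1 : ⟪r, a⟫ = 0 := by simp [hr, herm_sub_left, herm_smul_left, ha, e2]
  have r2 : ⟪r, b₁⟫ = 0 := by simp [hr, herm_sub_left, herm_smul_left, e1, e2']
  have r3 : ⟪r, r⟫ = 0 := by
    nth_rewrite 2 [hr]
    rw [herm_sub_right hF, herm_sub_right hF, herm_smul_right, herm_smul_right, r1, r2, hr,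
      herm_sub_left, herm_sub_left, herm_smul_left, herm_smul_left, c1]
    simp
  by_cases c2 : r ∈ Submodule.span F {a, b₁}
  · obtain ⟨u, hu, u1, u2⟩ := exists_perp_two hF (by omega) ha e1 e2'
    refine h.tri_good hF hbc hu u1 (hb' u u1 u2) ?_
    have := (uPQ hF n).mem_perp_span.2 (show ∀ v ∈ ({a, b₁} : Set _),
      (uPQ hF n).B v u = 0 by simp [uPQ_B, u1, u2]) r c2
    rw [hc', herm_add_right hF, herm_add_right hF, herm_smul_right, herm_smul_right, u1, u2,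
      ← uPQ_B hF n r, this]
    simp
  obtain ⟨s', s1, s2, s3, s4⟩ := exists_partner_norm hF r3 c2 (by simp [r1, r2])
    (c := ν⁻¹) (by rw [inv_pow, hν])
  simp only [Set.mem_insert_iff, Set.mem_singleton_iff, forall_eq_or_imp, forall_eq] at s4
  obtain ⟨μ, hμ⟩ := exists_norm_eq hF hν
  obtain ⟨d, hd⟩ : ∃ d, d = μ • s' := ⟨_, rfl⟩
  have d1 : ⟪d, d⟫ = 1 := by
    rw [hd, herm_smul_left, herm_smul_right, s1, ← mul_assoc, ← pow_succ', hμ, mul_inv_cancel₀ h0]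
  have d2 : ⟪d, a⟫ = 0 := by rw [hd, herm_smul_left, s4.1, mul_zero]
  have d3 : ⟪d, b₁⟫ = 0 := by rw [hd, herm_smul_left, s4.2, mul_zero]
  have d4 := hb' d d2 d3
  have d5 : ⟪d, c⟫ = μ := by
    rw [hc', herm_add_right hF, herm_add_right hF, herm_smul_right, herm_smul_right, d2, d3, hd,
      herm_smul_left, s3]
    simp
  have d6 : ⟪c, d⟫ * ⟪d, c⟫ = ν := by rw [← herm_conj hF, d5, ← pow_succ, hμ]
  refine h.tri_trans hF hn d1 (col_of_perp (perp_symm hF d2)) ?_ ?_ ?_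
  · obtain ⟨u, hu, u1, u2, u3⟩ := exists_perp_three hF hn ha e1 d1 e2' (perp_symm hF d2)
      (perp_symm hF d3)
    exact h.tri_good hF (col_of_perp d4) hu u1 u3 (hb' u u1 u2)
  · obtain ⟨u, hu, u1, u2, u3⟩ := exists_perp_of_ne hF hn (c := c) ha d1 (perp_symm hF d2)
      (by rw [hc, d6]; exact sub_ne_zero.2 h2.symm)
    exact h.tri_good hF (Col.symm (d6 ▸ h1 :)) hu u1 u2 u3
  · obtain ⟨u, hu, u1, u2, u3⟩ := exists_perp_of_ne hF hn (c := c) hb d1 (perp_symm hF d4)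
      (by rw [hc, d6]; exact sub_ne_zero.2 h3.symm)
    exact h.tri_good hF hbc hu u2 u1 u3

variable (hq : 3 < q)
include hq

theorem tri_all {a b c : Fin n → F} (ha : ⟪a, a⟫ = 1) (hb : ⟪b, b⟫ = 1) (hc : ⟪c, c⟫ = 1)
    (hab : Col q a b) (hac : Col q a c) (hbc : Col q b c) : Tri q p A a b c := by
  classical
  obtain ⟨ν, μ, h1, h2, h3⟩ : ∃ ν μ : F, (ν ^ q = ν ∧ ν ≠ 0 ∧ ν ≠ 1) ∧ (μ ^ q = μ ∧ μ ≠ 0 ∧ μ ≠ 1) ∧
      ν ≠ μ := by
    have e1 := card_fixed hF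
    rw [Nat.card_eq_fintype_card, Fintype.card_subtype] at e1
    have e2 := Finset.le_card_sdiff ({0, 1} : Finset F) (Finset.univ.filter fun x : F => x ^ q = x)
    have e3 : ({0, 1} : Finset F).card ≤ 2 := Finset.card_le_two
    obtain ⟨ν, e4, μ, e5, e6⟩ := Finset.one_lt_card.1 (show 1 < ((Finset.univ.filter fun x : F =>
      x ^ q = x) \ {0, 1}).card by omega)
    exact ⟨ν, μ, by simpa using e4, by simpa using e5, e6⟩
  have k1 : ∀ ν : F, ν ^ q = ν ∧ ν ≠ 0 ∧ ν ≠ 1 → ¬ Tri q p A a b c →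
      (ν = 1 - ⟪c, a⟫ * ⟪a, c⟫ ∨ ν = 1 - ⟪c, b⟫ * ⟪b, c⟫) ∧
      (ν = 1 - ⟪b, a⟫ * ⟪a, b⟫ ∨ ν = 1 - ⟪c, b⟫ * ⟪b, c⟫) ∧
      (ν = 1 - ⟪b, a⟫ * ⟪a, b⟫ ∨ ν = 1 - ⟪c, a⟫ * ⟪a, c⟫) := fun ν hν ht => by
    refine ⟨?_, ?_, ?_⟩ <;> by_contra! e <;> apply ht
    · exact h.tri_apex hF hn ha hb hc hab hbc hν.1 hν.2.1 hν.2.2 e.1 e.2
    · exact h.tri_swap (h.tri_apex hF hn ha hc hb hac hbc.symm hν.1 hν.2.1 hν.2.2 e.1
        (mul_comm ⟪c, b⟫ _ ▸ e.2))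
    · exact h.tri_swap' hF hn hbc (h.tri_swap (h.tri_apex hF hn hb hc ha hbc hac.symm hν.1 hν.2.1
        hν.2.2 (mul_comm ⟪b, a⟫ _ ▸ e.1) (mul_comm ⟪c, a⟫ _ ▸ e.2)))
  by_contra ht
  have k2 := k1 ν h1 ht
  have k3 := k1 μ h2 ht
  grind

theorem cl_tri {y x₁ x₂ : Y} (h1 : CL q p A y x₁) (h2 : CL q p A y x₂) (h3 : Col q (p x₁) (p x₂)) :
    CL q p A x₁ x₂ :=
  h.tri_all hF hn hq (h.unit y) (h.unit x₁) (h.unit x₂) h1.1 h2.1 h3 y x₁ x₂ rfl rfl rfl h1 h2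

theorem cl_quad {y b c d : Y} (h1 : CL q p A y b) (h2 : CL q p A b c) (h3 : CL q p A y d)
    (h4 : Col q (p d) (p c)) : CL q p A d c := by
  obtain ⟨f, s, t, f1, hs, f2, f3, f4⟩ := exists_line hF (h.unit y) (h.unit b) h1.1 (p c) (p d)
    (Or.inl hq)
  by_cases ht : t = 0
  · refine h.cl_tri hF hn hq h3 (h.cl_tri hF hn hq (h.cl_symm h1) h2 fun e => f3 ?_) h4
    rw [f2, ht, zero_smul, add_zero] at f1 ⊢
    rw [herm_smul_left, herm_smul_right, h.unit] at f1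
    rw [herm_smul_left, herm_smul_right]
    linear_combination f1 + s * s ^ q * e
  obtain ⟨z, hz, rfl⟩ := h.cl_ex hF hn y f1 (col_of_line hF (h.unit b) (h.unit y) h1.1.symm ht f1
    (f2.trans (add_comm _ _))).symm
  have h5 := h.cl_tri hF hn hq hz h1 (col_of_line hF (h.unit y) (h.unit b) h1.1 hs f1 f2)
  exact h.cl_tri hF hn hq (h.cl_tri hF hn hq hz h3 f4)
    (h.cl_tri hF hn hq (h.cl_symm h5) h2 f3) h4

theorem eq_of_reach_four {y x : Y} (hx : Relation.ReflTransGen A y x) (e : p x = p y) : x = y := by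
  have key : ∃ w, CL q p A y w ∧ CL q p A w x := by
    clear e
    induction hx with
    | refl =>
      obtain ⟨u, hu, h1, -⟩ := exists_perp_vec hF hn (h.unit y) 0
      obtain ⟨w, hw, -⟩ := h.ex y u hu h1
      exact ⟨w, h.cl_of_adj hF hn hw, h.cl_of_adj hF hn (h.symm hw)⟩
    | @tail x x' _ h2 ih =>
      obtain ⟨w, h3, h4⟩ := ih
      have h5 := h.cl_of_adj hF hn h2
      obtain ⟨f, s, t, f1, hs, f2, f3, f4⟩ := exists_line hF (h.unit x) (h.unit x') h5.1 (p y) (p x)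
        (Or.inl hq)
      obtain ⟨z, hz, rfl⟩ := h.cl_ex hF hn y f1 f3.symm
      exact ⟨z, hz, h.cl_tri hF hn hq (h.cl_symm (h.cl_quad hF hn hq h3 h4 hz f4)) h5
        (col_of_line hF (h.unit x) (h.unit x') h5.1 hs f1 f2)⟩
  obtain ⟨w, h1, h2⟩ := key
  exact h.cl_uniq hF h2 (h.cl_symm h1) e

end Cov

end CfsgLib.Phan
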