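import Mathlib
import Cfsg.Agent.Lib.Phan.Geom

/-!
# The coset cover of the orthogonality graph attached to an amalgam
-/

set_option autoImplicit false

namespace CfsgLib.Phan
open Cfsg CfsgLib.Unitary CfsgLib.Forms

variable {F : Type*} [Field F] {q n : ℕ}

local notation "⟪" u ", " v "⟫" => hermForm n F q u v

/-- The standard basis vector with index a natural number (zero if the index is too large). -/
def en (i : ℕ) : Fin n → F := fun j => if (j : ℕ) = i then 1 else 0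

theorem en_val (j : Fin n) : (en j : Fin n → F) = ee j := by
  ext i; simp [en, ee_apply, Fin.ext_iff]

theorem en_eq_ee {i : ℕ} (h : i < n) : (en i : Fin n → F) = ee ⟨i, h⟩ := en_val ⟨i, h⟩

theorem en_of_le {i : ℕ} (h : n ≤ i) : (en i : Fin n → F) = 0 := by
  ext j; simp only [en, Pi.zero_apply, ite_eq_right_iff]; omega

theorem forall_en_iff {g : SU n F q} {P : ℕ → Prop} : (∀ i, P i → g • (en i : Fin n → F) = en i) ↔
    ∀ j : Fin n, P j → g • (ee j : Fin n → F) = ee j := by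
  refine ⟨fun h j hj => en_val (F := F) j ▸ h j hj, fun h i hi => ?_⟩
  rcases lt_or_ge i n with h' | h'
  · rw [en_eq_ee h']; exact h ⟨i, h'⟩ hi
  · rw [en_of_le h', smul_zero]

theorem herm_inv_smul (g : SU n F q) (u v : Fin n → F) : ⟪g⁻¹ • u, v⟫ = ⟪u, g • v⟫ := by
  rw [← herm_smul g, smul_inv_smul]

variable [Fintype F] (hF : Fintype.card F = q ^ 2)
include hF

theorem herm_en_self {i : ℕ} (h : i < n) : ⟪en i, en i⟫ = 1 := by
  rw [en_eq_ee h, herm_ee_ee hF, if_pos rfl]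

theorem herm_en_ne {i j : ℕ} (h : i ≠ j) : ⟪en i, en j⟫ = 0 := by
  rcases lt_or_ge j n with h' | h'
  · rw [en_eq_ee h', herm_ee_right hF, en, if_neg h.symm]
  · rw [en_of_le h', herm_zero_right hF]

theorem exists_fix (P : ℕ → Prop) {a b : ℕ} (hab : a < b) (hb : b < n) (ha' : ¬ P a) (hb' : ¬ P b)
    {x y : Fin n → F} (hx : ⟪x, x⟫ = 1) (hy : ⟪y, y⟫ = 1) (hx' : ∀ i, P i → ⟪x, en i⟫ = 0)
    (hy' : ∀ i, P i → ⟪y, en i⟫ = 0) :
    ∃ g : SU n F q, (∀ i, P i → g • (en i : Fin n → F) = en i) ∧ g • x = y := by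
  classical
  have key : ∀ z : Fin n → F, ⟪z, z⟫ = 1 → (∀ i, P i → ⟪z, en i⟫ = 0) →
      ON q fun o : Option {i : Fin n // P i} => o.elim z fun i => en i.1 := fun z h1 h2 => by
    refine ⟨?_, ?_⟩
    · rintro (_ | i)
      · exact h1
      · exact herm_en_self hF i.1.2
    · rintro (_ | i) (_ | j) h
      · exact absurd rfl h
      · exact h2 _ j.2
      · exact perp_symm hF (h2 _ i.2)
      · exact herm_en_ne hF fun e => h (congrArg some (Subtype.ext (Fin.ext e)))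
  obtain ⟨g, hg⟩ := (key x hx hx').exists_su hF (key y hy hy') (by
    have h1 := Finset.card_le_card (show (Finset.univ.filter fun i : Fin n => P i) ⊆
      ({⟨a, by omega⟩, ⟨b, hb⟩} : Finset (Fin n))ᶜ by
        intro i hi
        simp only [Finset.mem_filter, Finset.mem_univ, true_and] at hi
        simp only [Finset.mem_compl, Finset.mem_insert, Finset.mem_singleton]
        rintro (rfl | rfl) <;> contradiction)
    rw [Finset.card_compl, Finset.card_pair (by simp; omega), Fintype.card_fin] at h1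
    rw [Fintype.card_option, Fintype.card_subtype]
    omega)
  exact ⟨g, forall_en_iff.2 fun j hj => en_val (F := F) j ▸ hg (some ⟨j, hj⟩), hg none⟩

omit hF [Fintype F] in
/-- Lifts of the stabiliser of the first basis vector and of the block on the first `m` coordinates. -/
structure Amal {Γ : Type*} [Group Γ] (π : Γ →* SU n F q) (H K : Subgroup Γ) (m : ℕ) : Prop where
  three : 3 ≤ m
  four : 4 ≤ n
  H_fix : ∀ h ∈ H, π h • (en 0 : Fin n → F) = en 0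
  H_surj : ∀ g : SU n F q, g • (en 0 : Fin n → F) = en 0 → ∃ h ∈ H, π h = g
  K_fix : ∀ k ∈ K, ∀ i, m ≤ i → π k • (en i : Fin n → F) = en i
  K_surj : ∀ g : SU n F q, (∀ i, m ≤ i → g • (en i : Fin n → F) = en i) → ∃ k ∈ K, π k = g
  KH : ∀ k ∈ K, π k • (en 0 : Fin n → F) = en 0 → k ∈ H

omit hF [Fintype F] in
/-- The lifts of the blocks on the first `j` and on the remaining coordinates commute. -/
def Comm {Γ : Type*} [Group Γ] (π : Γ →* SU n F q) (H K : Subgroup Γ) (j : ℕ) : Prop :=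
  ∀ k ∈ K, (∀ i, j ≤ i → π k • (en i : Fin n → F) = en i) →
    ∀ h ∈ H, (∀ i, i < j → π h • (en i : Fin n → F) = en i) → Commute k h

omit hF [Fintype F] in
/-- The projection of the coset space to the unit vectors. -/
noncomputable def pp {Γ : Type*} [Group Γ] (π : Γ →* SU n F q) (H : Subgroup Γ) (y : Γ ⧸ H) :
    Fin n → F := π y.out • en 0

omit hF [Fintype F] in
/-- Adjacency of cosets. -/
def Adj {Γ : Type*} [Group Γ] (H : Subgroup Γ) (ν : Γ) (y y' : Γ ⧸ H) : Prop :=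
  ∃ γ : Γ, y = γ ∧ y' = (γ * ν : Γ)

omit hF [Fintype F] in
theorem Adj.smul {Γ : Type*} [Group Γ] {H : Subgroup Γ} {ν : Γ} {y y' : Γ ⧸ H} (h : Adj H ν y y')
    (g : Γ) : Adj H ν (g • y) (g • y') := by
  obtain ⟨γ, rfl, rfl⟩ := h
  exact ⟨g * γ, rfl, by rw [mul_assoc]; rfl⟩

omit hF [Fintype F] in
theorem Adj.of_smul {Γ : Type*} [Group Γ] {H : Subgroup Γ} {ν : Γ} {y y' : Γ ⧸ H} (g : Γ)
    (h : Adj H ν (g • y) (g • y')) : Adj H ν y y' := by simpa using h.smul g⁻¹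

namespace Amal

variable {Γ : Type*} [Group Γ] {π : Γ →* SU n F q} {H K : Subgroup Γ} {m : ℕ} (h : Amal π H K m)
include h

omit hF [Fintype F] in
theorem pp_mk (γ : Γ) : pp π H γ = π γ • en 0 := by
  obtain ⟨x, hx⟩ := QuotientGroup.mk_out_eq_mul H γ
  rw [pp, hx, map_mul, mul_smul, h.H_fix _ x.2]

omit hF [Fintype F] in
theorem pp_smul (g : Γ) (y : Γ ⧸ H) : pp π H (g • y) = π g • pp π H y := by
  obtain ⟨γ, rfl⟩ := QuotientGroup.mk_surjective y
  rw [h.pp_mk, ← mul_smul, ← map_mul, ← h.pp_mk]; rfl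

theorem exists_nu : ∃ ν ∈ K, π ν • (en 0 : Fin n → F) = en 1 ∧
    ∀ i, 2 ≤ i → π ν • (en i : Fin n → F) = en i := by
  have := h.four
  have := h.three
  obtain ⟨g, h1, h2⟩ := exists_fix hF (n := n) (2 ≤ ·) (a := 0) (b := 1) (by omega) (by omega)
    (by omega) (by omega) (herm_en_self hF (i := 0) (by omega)) (herm_en_self hF (i := 1) (by omega))
    (fun i hi => herm_en_ne hF (by omega)) fun i hi => herm_en_ne hF (by omega)
  obtain ⟨ν, h3, rfl⟩ := h.K_surj g fun i hi => h1 i (by omega)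
  exact ⟨ν, h3, h2, h1⟩

theorem exists_H {j : ℕ} (hj : 1 ≤ j) (hn : j + 1 < n) {x y : Fin n → F} (hx : ⟪x, x⟫ = 1)
    (hy : ⟪y, y⟫ = 1) (hx' : ∀ i, i < j → ⟪x, en i⟫ = 0) (hy' : ∀ i, i < j → ⟪y, en i⟫ = 0) :
    ∃ a ∈ H, (∀ i, i < j → π a • (en i : Fin n → F) = en i) ∧ π a • x = y := by
  obtain ⟨g, h1, h2⟩ := exists_fix hF (· < j) (Nat.lt_succ_self j) hn (by omega) (by omega) hx hy hx' hy'
  obtain ⟨a, h3, rfl⟩ := h.H_surj g (h1 0 hj)
  exact ⟨a, h3, h1, h2⟩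

theorem exists_K {j : ℕ} (hj : 2 ≤ j) (hm : j ≤ m) {y : Fin n → F} (hy : ⟪y, y⟫ = 1)
    (hy' : ∀ i, j ≤ i → ⟪y, en i⟫ = 0) :
    ∃ a ∈ K, (∀ i, j ≤ i → π a • (en i : Fin n → F) = en i) ∧ π a • (en 0 : Fin n → F) = y := by
  have := h.four
  obtain ⟨g, h1, h2⟩ := exists_fix hF (j ≤ ·) (a := 0) (b := 1) (by omega) (by omega) (by omega)
    (by omega) (herm_en_self hF (i := 0) (by omega)) hy (fun i hi => herm_en_ne hF (by omega)) hy'
  obtain ⟨a, h3, rfl⟩ := h.K_surj g fun i hi => h1 i (by omega)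
  exact ⟨a, h3, h1, h2⟩

variable {ν : Γ} (hν : ν ∈ K) (hν0 : π ν • (en 0 : Fin n → F) = en 1)
include hν0

theorem adj_ex (γ : Γ) {x : Fin n → F} (hx : ⟪x, x⟫ = 1) (hx' : ⟪x, π γ • en 0⟫ = 0) :
    ∃ a ∈ H, π (γ * a) • (en 1 : Fin n → F) = x ∧ Adj H ν γ (γ * a * ν : Γ) ∧
      pp π H (γ * a * ν : Γ) = x := by
  have := h.four
  obtain ⟨a, ha, -, h2⟩ := h.exists_H hF (j := 1) le_rfl (by omega) (y := (π γ)⁻¹ • x)
    (herm_en_self hF (i := 1) (by omega)) (by rw [herm_smul, hx])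
    (fun i hi => herm_en_ne hF (by omega)) fun i hi => by
      rw [herm_inv_smul, show i = 0 by omega, hx']
  have h3 : π (γ * a) • (en 1 : Fin n → F) = x := by rw [map_mul, mul_smul, h2, smul_inv_smul]
  exact ⟨a, ha, h3, ⟨γ * a, QuotientGroup.eq.2 (by simpa using ha), rfl⟩,
    by rw [h.pp_mk, map_mul, mul_smul, hν0, h3]⟩

include hν

theorem adj_K {k : Γ} (hk : k ∈ K) (hk' : ⟪π k • en 0, en 0⟫ = 0) : Adj H ν (1 : Γ) k := by
  have := h.four
  have := h.three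
  obtain ⟨g, h1, h2⟩ := exists_fix hF (n := n) (fun i => i = 0 ∨ m ≤ i) (a := 1) (b := 2) (by omega) (by omega)
    (by omega) (by omega) (y := π k • en 0) (herm_en_self hF (i := 1) (by omega))
    (by rw [herm_smul, herm_en_self hF (i := 0) (by omega)])
    (fun i hi => herm_en_ne hF (by omega)) (by
      rintro i (rfl | hi)
      · exact hk'
      · rw [← h.K_fix k hk i hi, herm_smul, herm_en_ne hF (by omega)])
  obtain ⟨a, h3, rfl⟩ := h.K_surj g fun i hi => h1 i (Or.inr hi)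
  refine ⟨a, QuotientGroup.eq.2 (by simpa using h.KH a h3 (h1 0 (Or.inl rfl))),
    (QuotientGroup.eq.2 (h.KH _ (mul_mem (inv_mem (mul_mem h3 hν)) hk) ?_)).symm⟩
  rw [map_mul, map_inv, mul_smul, inv_smul_eq_iff, map_mul, mul_smul, hν0, h2]

theorem adj_K' (γ : Γ) {k k' : Γ} (hk : k ∈ K) (hk' : k' ∈ K)
    (h0 : ⟪π k' • en 0, π k • en 0⟫ = 0) : Adj H ν (γ * k : Γ) (γ * k' : Γ) := by
  have := (h.adj_K hF hν hν0 (mul_mem (inv_mem hk) hk')
    (by rw [map_mul, mul_smul, map_inv, herm_inv_smul, h0])).smul (γ * k)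
  simpa [mul_assoc] using this

variable (hν2 : ∀ i, 2 ≤ i → π ν • (en i : Fin n → F) = en i) (h2 : Comm π H K 2)
include hν2 h2

omit hF [Fintype F] in
theorem adj_uniq {y y₁ y₂ : Γ ⧸ H} (h3 : Adj H ν y y₁) (h4 : Adj H ν y y₂)
    (e : pp π H y₁ = pp π H y₂) : y₁ = y₂ := by
  obtain ⟨γ, rfl, rfl⟩ := h3
  obtain ⟨δ, h5, rfl⟩ := h4
  have h6 := QuotientGroup.eq.1 h5
  rw [h.pp_mk, h.pp_mk, map_mul, map_mul, mul_smul, mul_smul, hν0] at e
  have h7 := h2 ν hν hν2 _ h6 fun i hi => by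
    interval_cases i
    · exact h.H_fix _ h6
    · rw [map_mul, mul_smul, ← e, map_inv, inv_smul_smul]
  refine QuotientGroup.eq.2 ?_
  rwa [mul_inv_rev, mul_assoc, ← mul_assoc γ⁻¹, ← h7.eq, inv_mul_cancel_left]

theorem adj_sq {j : ℕ} (hj : 2 ≤ j) (hm : j < m) (hn : j + 1 < n) (hc : Comm π H K j) (γ : Γ)
    {w w' x : Γ ⧸ H} (h3 : Adj H ν γ w) (h4 : Adj H ν γ w') (h5 : Adj H ν w x)
    (hu : ∀ y, ⟪pp π H y, pp π H y⟫ = 1) (hs : ∀ {y y'}, Adj H ν y y' → Adj H ν y' y)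
    (e1 : ∀ i, j ≤ i → ⟪pp π H x, π γ • en i⟫ = 0) (e2 : ∀ i, i < j → ⟪pp π H w, π γ • en i⟫ = 0)
    (e3 : ∀ i, i < j → ⟪pp π H w', π γ • en i⟫ = 0) : Adj H ν w' x := by
  wlog hγ : γ = 1 generalizing γ w w' x
  · refine Adj.of_smul γ⁻¹ (this 1 (w := γ⁻¹ • w) ?_ ?_ (h5.smul _) ?_ ?_ ?_ rfl)
    · simpa using h3.smul γ⁻¹
    · simpa using h4.smul γ⁻¹
    · simpa [h.pp_smul, herm_inv_smul] using e1
    · simpa [h.pp_smul, herm_inv_smul] using e2
    · simpa [h.pp_smul, herm_inv_smul] using e3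
  subst hγ
  simp only [map_one, one_smul] at e1 e2 e3
  have hH : ∀ a ∈ H, a • ((1 : Γ) : Γ ⧸ H) = (1 : Γ) := fun a ha =>
    QuotientGroup.eq.2 (by simpa using ha)
  obtain ⟨k, hk, k1, k2⟩ := h.exists_K hF hj hm.le (hu x) e1
  obtain ⟨κ, hκ, -, κ2⟩ := h.exists_K hF (j := m) (y := en j) (by omega) le_rfl
    (herm_en_self hF (by omega)) fun i hi => herm_en_ne hF (by omega)
  have κ3 := h.adj_K hF hν hν0 hκ (by rw [κ2, herm_en_ne hF (by omega)])
  have key : ∀ z, Adj H ν (1 : Γ) z → (∀ i, i < j → ⟪pp π H z, en i⟫ = 0) → Adj H ν z k := by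
    intro z h6 h7
    obtain ⟨a, ha, a1, a2⟩ := h.exists_H hF (x := en j) (by omega) hn (herm_en_self hF (by omega))
      (hu z) (fun i hi => herm_en_ne hF (by omega)) h7
    have h8 : z = a • (κ : Γ ⧸ H) := h.adj_uniq hν hν0 hν2 h2 h6 (hH a ha ▸ κ3.smul a)
      (by rw [h.pp_smul, h.pp_mk, κ2, a2])
    have h9 := (h.adj_K' hF hν hν0 1 hκ hk (by rw [κ2, k2, e1 j le_rfl])).smul a
    rw [one_mul, one_mul, ← h8] at h9
    convert h9 using 1
    refine QuotientGroup.eq.2 ?_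
    change k⁻¹ * (a * k) ∈ H
    rwa [← (hc k hk k1 a ha a1).eq, inv_mul_cancel_left]
  rw [h.adj_uniq hν hν0 hν2 h2 h5 (key w h3 e2) (by rw [h.pp_mk, k2])]
  exact key w' h4 e3

theorem cov : Cov q (pp π H) (Adj H ν) ∧ (4 ≤ m → 5 ≤ n → Comm π H K 3 → Sq3 q (pp π H) (Adj H ν)) := by
  have := h.four
  have := h.three
  have hu : ∀ y, ⟪pp π H y, pp π H y⟫ = 1 := fun y => by
    rw [pp, herm_smul, herm_en_self hF (by omega)]
  have hp : ∀ {y y'}, Adj H ν y y' → ⟪pp π H y, pp π H y'⟫ = 0 := by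
    rintro _ _ ⟨γ, rfl, rfl⟩
    rw [h.pp_mk, h.pp_mk, map_mul, mul_smul, herm_smul, hν0, herm_en_ne hF (by omega)]
  have hs : ∀ {y y'}, Adj H ν y y' → Adj H ν y' y := by
    rintro _ _ ⟨γ, rfl, rfl⟩
    simpa using h.adj_K' hF hν hν0 γ hν (one_mem K)
      (by rw [map_one, one_smul, hν0, herm_en_ne hF (by omega)])
  have h1 : ∀ (y : Γ ⧸ H) a, ⟪a, a⟫ = 1 → ⟪a, pp π H y⟫ = 0 →
      ∃ γ : Γ, y = γ ∧ π γ • (en 1 : Fin n → F) = a := fun y a a1 a2 => by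
    obtain ⟨γ, rfl⟩ := QuotientGroup.mk_surjective y
    obtain ⟨b, hb, b1, -⟩ := h.adj_ex hF hν0 γ a1 (h.pp_mk γ ▸ a2)
    exact ⟨γ * b, QuotientGroup.eq.2 (by simpa using hb), b1⟩
  have h3 : ∀ (y : Γ ⧸ H) a b, ⟪a, a⟫ = 1 → ⟪b, b⟫ = 1 → ⟪a, pp π H y⟫ = 0 → ⟪b, pp π H y⟫ = 0 →
      ⟪b, a⟫ = 0 → ∃ γ : Γ, y = γ ∧ π γ • (en 1 : Fin n → F) = a ∧ π γ • (en 2 : Fin n → F) = b := by
    intro y a b a1 b1 a2 b2 ab
    obtain ⟨γ, rfl, rfl⟩ := h1 y a a1 a2
    rw [h.pp_mk] at b2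
    obtain ⟨c, hc, c1, c2⟩ := h.exists_H hF (j := 2) (by omega) (by omega) (y := (π γ)⁻¹ • b)
      (herm_en_self hF (i := 2) (by omega)) (by rw [herm_smul, b1])
      (fun i hi => herm_en_ne hF (by omega)) fun i hi => by
        rw [herm_inv_smul]; interval_cases i <;> assumption
    exact ⟨γ * c, QuotientGroup.eq.2 (by simpa using hc), by rw [map_mul, mul_smul, c1 1 (by omega)],
      by rw [map_mul, mul_smul, c2, smul_inv_smul]⟩
  refine ⟨⟨hu, hp, fun y x x1 x2 => ?_, h.adj_uniq hν hν0 hν2 h2, hs, fun {y y₁ y₂} h4 h5 h6 => ?_,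
    fun {y w w' x} h4 h5 h6 a s t a1 a2 e e1 e2 => ?_⟩,
    fun hm hn hc y w w' x h4 h5 h6 a b s t u a1 b1 a2 b2 ab e e1 e2 e3 e4 => ?_⟩
  · obtain ⟨γ, rfl⟩ := QuotientGroup.mk_surjective y
    obtain ⟨b, -, -, b1⟩ := h.adj_ex hF hν0 γ x1 (h.pp_mk γ ▸ x2)
    exact ⟨_, b1⟩
  · obtain ⟨γ, rfl, e1, e2⟩ := h3 y _ _ (hu y₁) (hu y₂) (hp (hs h4)) (hp (hs h5)) (perp_symm hF h6)
    obtain ⟨κ, hκ, -, κ2⟩ := h.exists_K hF (j := m) (y := en 2) (by omega) le_rfl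
      (herm_en_self hF (by omega)) fun i hi => herm_en_ne hF (by omega)
    have h7 := h.adj_K' hF hν hν0 γ (one_mem K) hκ
      (by rw [κ2, map_one, one_smul, herm_en_ne hF (by omega)])
    rw [mul_one] at h7
    rw [h.adj_uniq hν hν0 hν2 h2 h4 ⟨γ, rfl, rfl⟩ (by rw [h.pp_mk, map_mul, mul_smul, hν0, e1]),
      h.adj_uniq hν hν0 hν2 h2 h5 h7 (by rw [h.pp_mk, map_mul, mul_smul, κ2, e2])]
    exact h.adj_K' hF hν hν0 γ hν hκ (by rw [κ2, hν0, herm_en_ne hF (by omega)])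
  · obtain ⟨γ, rfl, rfl⟩ := h1 y a a1 a2
    refine h.adj_sq hF hν hν0 hν2 h2 le_rfl (by omega) (by omega) h2 γ h4 h5 h6 hu hs
      (fun i hi => ?_) (fun i hi => ?_) fun i hi => ?_
    · simp [e, h.pp_mk, herm_add_left, herm_smul_left, herm_smul,
        herm_en_ne hF (show 0 ≠ i by omega), herm_en_ne hF (show 1 ≠ i by omega)]
    · interval_cases i
      exacts [h.pp_mk γ ▸ hp (hs h4), e1]
    · interval_cases i
      exacts [h.pp_mk γ ▸ hp (hs h5), e2]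
  · obtain ⟨γ, rfl, rfl, rfl⟩ := h3 y a b a1 b1 a2 b2 (perp_symm hF ab)
    refine h.adj_sq hF hν hν0 hν2 h2 (by omega) hm hn hc γ h4 h5 h6 hu hs
      (fun i hi => ?_) (fun i hi => ?_) fun i hi => ?_
    · simp [e, h.pp_mk, herm_add_left, herm_smul_left, herm_smul, herm_en_ne hF (show 0 ≠ i by omega),
        herm_en_ne hF (show 1 ≠ i by omega), herm_en_ne hF (show 2 ≠ i by omega)]
    · interval_cases i
      exacts [h.pp_mk γ ▸ hp (hs h4), e1, e3]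
    · interval_cases i
      exacts [h.pp_mk γ ▸ hp (hs h5), e2, e4]

theorem eq_one_of_reach (hinj : ∀ a ∈ H, π a = 1 → a = 1)
    (hr : ∀ {y x}, Relation.ReflTransGen (Adj H ν) y x → pp π H x = pp π H y → x = y) {S : Set Γ}
    (hS : ∀ k ∈ S, k ∈ K ∧ ∃ u, ⟪u, u⟫ = 1 ∧ ⟪u, en 0⟫ = 0 ∧ ⟪π k • en 0, u⟫ = 0 ∧
      ∀ i, m ≤ i → ⟪u, en i⟫ = 0) {γ : Γ} (hγ : γ ∈ H ⊔ Subgroup.closure S) (h1 : π γ = 1) :
    γ = 1 := by
  have := h.three
  have hs : ∀ (g : Γ) {y y'}, Relation.ReflTransGen (Adj H ν) y y' →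
      Relation.ReflTransGen (Adj H ν) (g • y) (g • y') := fun g _ _ h1 =>
    h1.lift (g • ·) fun _ _ h2 => h2.smul g
  let R : Subgroup Γ :=
    { carrier := {γ | Relation.ReflTransGen (Adj H ν) (1 : Γ) γ}
      one_mem' := Relation.ReflTransGen.refl
      mul_mem' := fun {a b} ha hb => ha.trans (by simpa using hs a hb)
      inv_mem' := fun {a} ha => by
        simpa using Relation.ReflTransGen.mono (fun _ _ => (h.cov hF hν hν0 hν2 h2).1.symm)
          _ _ (hs a⁻¹ ha).swap }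
  have h3 : H ⊔ Subgroup.closure S ≤ R := by
    refine sup_le (fun x hx => ?_) ((Subgroup.closure_le _).2 fun k hk => ?_)
    · change Relation.ReflTransGen (Adj H ν) (1 : Γ) x
      rw [show (x : Γ ⧸ H) = (1 : Γ) from QuotientGroup.eq.2 (by simpa using hx)]
    · obtain ⟨hk, u, u1, u2, u3, u4⟩ := hS k hk
      obtain ⟨κ, hκ, -, rfl⟩ := h.exists_K hF (j := m) (by omega) le_rfl u1 u4
      exact (Relation.ReflTransGen.single (h.adj_K hF hν hν0 hκ u2)).tail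
        (by simpa using h.adj_K' hF hν hν0 1 hκ hk u3)
  have h4 := hr (h3 hγ) (by rw [h.pp_mk, h.pp_mk, h1, map_one])
  exact hinj γ (by simpa using QuotientGroup.eq.1 h4.symm) h1

end Amal

variable {Γ : Type*} [Group Γ] {π : Γ →* SU n F q} {H K : Subgroup Γ}

theorem Amal.inj_five (h : Amal π H K 4) (hn : 5 ≤ n) (h2 : Comm π H K 2) (h3 : Comm π H K 3)
    (hinj : ∀ a ∈ H, π a = 1 → a = 1) {γ : Γ} (hγ : γ ∈ H ⊔ K) (h1 : π γ = 1) : γ = 1 := by
  classical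
  obtain ⟨ν, hν, hν0, hν2⟩ := h.exists_nu hF
  have hc := h.cov hF hν hν0 hν2 h2
  refine h.eq_one_of_reach hF hν hν0 hν2 h2 hinj (hc.1.eq_of_reach_five hF (hc.2 le_rfl hn h3) hn)
    (S := K) (fun k hk => ⟨hk, ?_⟩) (by simpa using hγ) h1
  obtain ⟨u, u1, u2, u3⟩ := ON.exists_unit_vec hF
    (u := fun i : {i : Fin n // (i : ℕ) = 0 ∨ 4 ≤ (i : ℕ)} => (en i.1 : Fin n → F))
    ⟨fun i => herm_en_self hF i.1.2, fun i j e => herm_en_ne hF fun e' =>
      e (Subtype.ext (Fin.ext e'))⟩ (by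
    have h1 := Finset.card_le_card (show (Finset.univ.filter fun i : Fin n => (i : ℕ) = 0 ∨ 4 ≤ (i : ℕ))
      ⊆ ({⟨1, by omega⟩, ⟨2, by omega⟩, ⟨3, by omega⟩} : Finset (Fin n))ᶜ by
        intro i hi
        simp only [Finset.mem_filter, Finset.mem_univ, true_and] at hi
        simp only [Finset.mem_compl, Finset.mem_insert, Finset.mem_singleton]
        rintro (rfl | rfl | rfl) <;> simp at hi)
    rw [Finset.card_compl, Finset.card_eq_three.2 ⟨_, _, _, by simp, by simp, by simp, rfl⟩,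
      Fintype.card_fin] at h1
    rw [Fintype.card_subtype]
    omega) (π k • en 0)
  refine ⟨u, u1, u3 ⟨⟨0, by omega⟩, Or.inl rfl⟩, perp_symm hF u2, fun i hi => ?_⟩
  rcases lt_or_ge i n with h' | h'
  · exact u3 ⟨⟨i, h'⟩, Or.inr hi⟩
  · rw [en_of_le h', herm_zero_right hF]

theorem Amal.inj_four (h : Amal π H K 3) (hq : 3 < q) (h2 : Comm π H K 2)
    (hinj : ∀ a ∈ H, π a = 1 → a = 1) {γ : Γ}
    (hγ : γ ∈ H ⊔ Subgroup.closure {k | k ∈ K ∧ π k • (en 2 : Fin n → F) = en 2}) (h1 : π γ = 1) :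
    γ = 1 := by
  have := h.four
  obtain ⟨ν, hν, hν0, hν2⟩ := h.exists_nu hF
  refine h.eq_one_of_reach hF hν hν0 hν2 h2 hinj
    ((h.cov hF hν hν0 hν2 h2).1.eq_of_reach_four hF h.four hq) (fun k hk => ⟨hk.1, en 2,
      herm_en_self hF (by omega), herm_en_ne hF (by omega), ?_, fun i hi => herm_en_ne hF (by omega)⟩)
    hγ h1
  rw [← hk.2, herm_smul, herm_en_ne hF (by omega)]

theorem gen_step (hn : 4 ≤ n ∨ (3 ≤ n ∧ 2 < q)) (T : Subgroup (SU n F q))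
    (h1 : ∀ g : SU n F q, g • (en 0 : Fin n → F) = en 0 → g ∈ T)
    (h2 : ∀ g : SU n F q, (∀ i, 2 ≤ i → g • (en i : Fin n → F) = en i) → g ∈ T) : T = ⊤ := by
  have e0 := herm_en_self hF (n := n) (i := 0) (by omega)
  have e1 := herm_en_self hF (n := n) (i := 1) (by omega)
  have key : ∀ g ∈ T, ∀ x, ⟪x, x⟫ = 1 → Col q x (g • en 0) → ∃ t ∈ T, t • en 0 = x := by
    intro g hg x hx hc
    obtain ⟨c, s, t, c1, c2, rfl, -⟩ := hc.exists_on hF (by rw [herm_smul, e0]) hx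
    obtain ⟨b, b1, b2⟩ := exists_fix hF (· = 0) (a := 1) (b := 2) (by omega) (by omega) (by omega)
      (by omega) (y := g⁻¹ • c) e1 (by rw [herm_smul, c1]) (fun i hi => herm_en_ne hF (by omega))
      fun i hi => by rw [herm_inv_smul, hi, c2]
    have e : s • g • en 0 + t • c = g • b • (s • en 0 + t • en 1) := by
      simp only [smul_add, smul_comm b, smul_comm g, b1 0 rfl, b2, smul_inv_smul]
    rw [e, herm_smul, herm_smul] at hx
    obtain ⟨k, k1, k2⟩ := exists_fix hF (2 ≤ ·) (a := 0) (b := 1) (by omega) (by omega) (by omega)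
      (by omega) e0 hx (fun i hi => herm_en_ne hF (by omega)) fun i hi => by
        simp [herm_add_left, herm_smul_left, herm_en_ne hF (show 0 ≠ i by omega),
          herm_en_ne hF (show 1 ≠ i by omega)]
    exact ⟨g * b * k, mul_mem (mul_mem hg (h1 b (b1 0 rfl))) (h2 k k1), by
      rw [mul_smul, mul_smul, k2, e]⟩
  rw [eq_top_iff]
  intro g _
  obtain ⟨f, f1, f2, f3⟩ : ∃ f, ⟪f, f⟫ = 1 ∧ ⟪f, en 0⟫ = 0 ∧ Col q f (g • en 0) := by
    rcases hn with hn | hn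
    · obtain ⟨u, u1, u2, u3⟩ := exists_perp_vec hF hn e0 (g • en 0)
      exact ⟨u, u1, u2, col_of_perp u3⟩
    · obtain ⟨f, s, t, f1, -, rfl, f2, -⟩ := exists_line hF e1 (herm_en_self hF (i := 2) (by omega))
        (col_of_perp (herm_en_ne hF (by omega))) (g • en 0) 0 (Or.inr ⟨hn.2, rfl⟩)
      exact ⟨_, f1, by simp [herm_add_left, herm_smul_left, herm_en_ne hF], f2⟩
  obtain ⟨t, ht, rfl⟩ := key 1 (one_mem T) f f1 (col_of_perp (by simpa using f2))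
  obtain ⟨s, hs, e⟩ := key t ht (g • en 0) (by rw [herm_smul, e0]) f3.symm
  simpa using mul_mem hs (h1 (s⁻¹ * g) (by rw [mul_smul, ← e, inv_smul_smul]))

end CfsgLib.Phan
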