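import Mathlib
import Cfsg.Agent.Lib.Phan.Cover

/-!
# Phan's presentation of `SU n` by the chain of blocks
-/

set_option autoImplicit false

namespace CfsgLib.Phan
open Cfsg CfsgLib.Unitary

variable {F : Type*} [Field F] {q n k : ℕ}

theorem blk_fix_iff {i : ℕ} (h : i + k ≤ n) (a : SU k F q) (j : ℕ) :
    blk k n i h a • (en (i + j) : Fin n → F) = en (i + j) ↔ a • (en j : Fin k → F) = en j := by
  rcases lt_or_ge j k with h' | h'
  · rw [en_eq_ee h', en_eq_ee (show i + j < n by omega)]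
    exact emb_smul_ee_iff (seg k n i h) a ⟨j, h'⟩ ⟨j, h'⟩
  · rw [en_of_le h', smul_zero]
    refine iff_of_true ?_ rfl
    rcases lt_or_ge (i + j) n with h'' | h''
    · rw [en_eq_ee h'']
      exact emb_smul_ee_of_ne _ _ fun b e => by have := congrArg Fin.val e; simp at this; omega
    · rw [en_of_le h'', smul_zero]

theorem blk_congr {i j : ℕ} (h : i + k ≤ n) (e : i = j) (a : SU k F q) :
    blk k n i h a = blk k n j (e ▸ h) a := by subst e; rfl

variable [Fintype F] (hF : Fintype.card F = q ^ 2)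
include hF

theorem mem_range_blk' {i : ℕ} (h : i + k ≤ n) {g : SU n F q} : g ∈ (blk k n i h).range ↔
    ∀ j, j < i ∨ i + k ≤ j → g • (en j : Fin n → F) = en j :=
  (mem_range_blk hF h).trans (forall_en_iff (P := fun j => j < i ∨ i + k ≤ j)).symm

theorem blk_fix {i j : ℕ} (h : i + k ≤ n) (a : SU k F q) (hj : j < i ∨ i + k ≤ j) :
    blk k n i h a • (en j : Fin n → F) = en j := (mem_range_blk' hF h).1 ⟨a, rfl⟩ j hj

theorem commute_of_fix {g g' : SU n F q} {j : ℕ} (hj : j ≤ n)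
    (hg : ∀ i, j ≤ i → g • (en i : Fin n → F) = en i)
    (hg' : ∀ i, i < j → g' • (en i : Fin n → F) = en i) : Commute g g' := by
  obtain ⟨a, rfl⟩ := (mem_range_blk' hF (k := j) (i := 0) (by omega)).2 fun i hi => hg i (by omega)
  obtain ⟨b, rfl⟩ := (mem_range_blk' hF (k := n - j) (i := j) (g := g') (by omega)).2 fun i hi => by
    rcases hi with hi | hi
    · exact hg' i hi
    · rw [en_of_le (by omega), smul_zero]
  exact commute_blk _ _ (by omega) a b

theorem gen_blk {k : ℕ} (hk : 3 ≤ k ∨ (2 ≤ k ∧ 2 < q)) (hn : k ≤ n) (T : Subgroup (SU n F q))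
    (h : ∀ i (hi : i + k ≤ n) c, blk k n i hi c ∈ T) : T = ⊤ := by
  induction n, hn using Nat.le_induction with
  | base => exact eq_top_iff.2 fun c _ => blk_self c ▸ h 0 (by omega) c
  | succ n hn ih =>
    refine gen_step hF (by omega) T (fun g hg => ?_) fun g hg => ?_
    · obtain ⟨a, rfl⟩ := (mem_range_blk' hF (k := n) (i := 1) (g := g) (by omega)).2 fun i hi => by
        rcases hi with hi | hi
        · rwa [show i = 0 by omega]
        · rw [en_of_le (by omega), smul_zero]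
      have := ih (T.comap (blk n (n + 1) 1 (by omega))) fun i hi c => by
        rw [Subgroup.mem_comap, blk_blk]; exact h _ _ c
      exact show a ∈ T.comap _ from this ▸ Subgroup.mem_top a
    · obtain ⟨a, rfl⟩ := (mem_range_blk' hF (k := k) (i := 0) (g := g) (by omega)).2 fun i hi =>
        hg i (by omega)
      exact h _ _ a

theorem gen_fix {k j : ℕ} (hk : 3 ≤ k ∨ (2 ≤ k ∧ 2 < q)) (hn : j + k ≤ n) (T : Subgroup (SU n F q))
    (h : ∀ i (hi : i + k ≤ n), j ≤ i → ∀ c, blk k n i hi c ∈ T) {b : SU n F q}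
    (hb : ∀ i, i < j → b • (en i : Fin n → F) = en i) : b ∈ T := by
  obtain ⟨a, rfl⟩ := (mem_range_blk' hF (k := n - j) (i := j) (g := b) (by omega)).2 fun i hi => by
    rcases hi with hi | hi
    · exact hb i hi
    · rw [en_of_le (by omega), smul_zero]
  have := gen_blk hF hk (by omega) (T.comap (blk (n - j) n j (by omega))) fun i hi c => by
    rw [Subgroup.mem_comap, blk_blk]; exact h _ _ (by omega) c
  exact show a ∈ T.comap _ from this ▸ Subgroup.mem_top a

variable {Γ : Type*} [Group Γ]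

theorem hom_ext_blk {k : ℕ} (hk : 3 ≤ k ∨ (2 ≤ k ∧ 2 < q)) (hn : k ≤ n) {φ ψ : SU n F q →* Γ}
    (h : ∀ i (hi : i + k ≤ n) c, φ (blk k n i hi c) = ψ (blk k n i hi c)) (a : SU n F q) :
    φ a = ψ a :=
  show a ∈ φ.eqLocus ψ from gen_blk hF hk hn (φ.eqLocus ψ) h ▸ Subgroup.mem_top a

theorem commute_of_gen_fix {k j : ℕ} (hk : 3 ≤ k ∨ (2 ≤ k ∧ 2 < q)) (hn : j + k ≤ n)
    (ψ : SU n F q →* Γ) {x : Γ} (h : ∀ i (hi : i + k ≤ n), j ≤ i → ∀ c, Commute x (ψ (blk k n i hi c)))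
    {b : SU n F q} (hb : ∀ i, i < j → b • (en i : Fin n → F) = en i) : Commute x (ψ b) :=
  (gen_fix hF hk hn ((Subgroup.centralizer {x}).comap ψ) (fun i hi hj c =>
    Subgroup.mem_centralizer_singleton_iff.2 (h i hi hj c).symm) hb x rfl :)

theorem commute_of_gen {k : ℕ} (hk : 3 ≤ k ∨ (2 ≤ k ∧ 2 < q)) (hn : k ≤ n)
    (ψ : SU n F q →* Γ) {x : Γ} (h : ∀ i (hi : i + k ≤ n) c, Commute x (ψ (blk k n i hi c)))
    (b : SU n F q) : Commute x (ψ b) :=
  commute_of_gen_fix hF (j := 0) hk (by omega) ψ (fun i hi _ => h i hi) (by simp)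

theorem step {l : ℕ} (hl : (l = 2 ∧ 3 < q ∧ 3 ≤ n) ∨ (l = 3 ∧ 4 ≤ n)) (ψ : SU n F q →* Γ)
    (θ : SU (l + 1) F q →* Γ)
    (hc : ∀ a, θ (blk l (l + 1) 1 (by omega) a) = ψ (blk l n 0 (by omega) a))
    (hcomm : ∀ j, 2 ≤ j → ∀ (hj : j ≤ l) a (b : SU n F q),
      (∀ i, i + 1 < j → b • (en i : Fin n → F) = en i) →
      Commute (θ (blk j (l + 1) 0 (by omega) a)) (ψ b)) :
    ∃ Φ : SU (n + 1) F q →* Γ, (∀ a, Φ (blk n (n + 1) 1 (by omega) a) = ψ a) ∧
      ∀ a, Φ (blk (l + 1) (n + 1) 0 (by omega) a) = θ a := by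
  let H := ((blk n (n + 1) 1 (by omega)).prod ψ).range
  let K := ((blk (l + 1) (n + 1) 0 (by omega)).prod θ).range
  have hA : Amal (MonoidHom.fst (SU (n + 1) F q) Γ) H K (l + 1) := by
    refine ⟨by omega, by omega, ?_, fun g hg => ?_, ?_, fun g hg => ?_, ?_⟩
    · rintro _ ⟨a, rfl⟩
      exact blk_fix hF _ a (by omega)
    · obtain ⟨a, rfl⟩ := (mem_range_blk' hF (k := n) (i := 1) (g := g) (by omega)).2 fun i hi => by
        rcases hi with hi | hi
        · rwa [show i = 0 by omega]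
        · rw [en_of_le (by omega), smul_zero]
      exact ⟨_, ⟨a, rfl⟩, rfl⟩
    · rintro _ ⟨a, rfl⟩ i hi
      exact blk_fix hF _ a (by omega)
    · obtain ⟨a, rfl⟩ := (mem_range_blk' hF (k := l + 1) (i := 0) (g := g) (by omega)).2
        fun i hi => hg i (by omega)
      exact ⟨_, ⟨a, rfl⟩, rfl⟩
    · rintro _ ⟨a, rfl⟩ ha
      have h1 := (blk_fix_iff _ a 0).1 ha
      obtain ⟨b, rfl⟩ := (mem_range_blk' hF (k := l) (i := 1) (g := a) (by omega)).2 fun i hi => by
        rcases hi with hi | hi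
        · rwa [show i = 0 by omega]
        · rw [en_of_le (by omega), smul_zero]
      refine ⟨blk l n 0 (by omega) b, Prod.ext ?_ (hc b).symm⟩
      simp only [MonoidHom.prod_apply, blk_blk]
  have hC : ∀ j, 2 ≤ j → j ≤ l → Comm (MonoidHom.fst (SU (n + 1) F q) Γ) H K j := by
    rintro j h1 h2 _ ⟨a, rfl⟩ ha _ ⟨b, rfl⟩ hb
    refine Prod.ext (commute_of_fix hF (by omega) ha hb) ?_
    obtain ⟨a, rfl⟩ := (mem_range_blk' hF (k := j) (i := 0) (g := a) (by omega)).2 fun i hi =>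
      (blk_fix_iff _ a i).1 (by rw [zero_add]; exact ha i (by omega))
    exact hcomm j h1 h2 a b fun i hi => (blk_fix_iff _ b i).1 (hb _ (by omega))
  have hH : ∀ a ∈ H, MonoidHom.fst _ Γ a = 1 → a = 1 := by
    rintro _ ⟨a, rfl⟩ h
    rw [(injective_iff_map_eq_one _).1 (emb_injective _) a h, map_one]
  have hinj : ∀ γ ∈ H ⊔ K, MonoidHom.fst _ Γ γ = 1 → γ = 1 := by
    intro γ hγ h1
    rcases hl with ⟨rfl, hq, hn⟩ | ⟨rfl, hn⟩
    · refine hA.inj_four hF hq (hC 2 le_rfl le_rfl) hH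
        (SetLike.le_def.1 (sup_le le_sup_left ?_) hγ) h1
      refine Subgroup.map_le_iff_le_comap.2 (gen_blk hF (n := 2 + 1) (k := 2) (by omega) (by omega) _
        fun i hi c => ?_).ge |>.trans' (MonoidHom.range_eq_map _).le
      obtain rfl | rfl : i = 0 ∨ i = 1 := by omega
      · exact Subgroup.mem_sup_right (Subgroup.subset_closure ⟨⟨_, rfl⟩,
          (blk_fix_iff _ _ 2).2 (blk_fix hF _ c (by omega))⟩)
      · exact Subgroup.mem_sup_left (hA.KH _ ⟨_, rfl⟩
          ((blk_fix_iff _ _ 0).2 (blk_fix hF _ c (by omega))))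
    · exact hA.inj_five hF (by omega) (hC 2 le_rfl (by omega)) (hC 3 (by omega) le_rfl) hH hγ h1
  obtain ⟨Φ, hΦ⟩ := Subgroup.exists_eq_graph (G := H ⊔ K) ⟨fun x y e => by
      have := hinj (x.1⁻¹ * y.1) (mul_mem (inv_mem x.2) y.2) (inv_mul_eq_one.2 e)
      exact Subtype.ext (inv_mul_eq_one.1 this), fun g => by
      have := gen_step hF (by omega) ((H ⊔ K).map (MonoidHom.fst _ Γ))
        (fun g hg => let ⟨x, h1, h2⟩ := hA.H_surj g hg; ⟨x, Subgroup.mem_sup_left h1, h2⟩)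
        fun g hg => let ⟨x, h1, h2⟩ := hA.K_surj g fun i hi => hg i (by omega)
          ⟨x, Subgroup.mem_sup_right h1, h2⟩
      obtain ⟨x, h1, h2⟩ : g ∈ (H ⊔ K).map (MonoidHom.fst _ Γ) := this ▸ Subgroup.mem_top g
      exact ⟨⟨x, h1⟩, h2⟩⟩
  have key : ∀ x ∈ H ⊔ K, Φ x.1 = x.2 := fun x hx => MonoidHom.mem_graph.1 (hΦ ▸ hx)
  exact ⟨Φ, fun a => key _ (Subgroup.mem_sup_left (show _ ∈ H from ⟨a, rfl⟩)),
    fun a => key _ (Subgroup.mem_sup_right (show _ ∈ K from ⟨a, rfl⟩))⟩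

theorem chain3 (hq : 3 < q) (hn : 3 ≤ n) (θ : ℕ → (SU 3 F q →* Γ))
    (hc : ∀ i, i + 4 ≤ n → ∀ a, θ i (blk 2 3 1 (by omega) a) = θ (i + 1) (blk 2 3 0 (by omega) a))
    (hcomm : ∀ i j, i + 1 ≤ j → j + 3 ≤ n → ∀ a b,
      Commute (θ i (blk 2 3 0 (by omega) a)) (θ j (blk 2 3 1 (by omega) b))) :
    ∃ Φ : SU n F q →* Γ, ∀ i (h : i + 3 ≤ n) a, Φ (blk 3 n i h a) = θ i a := by
  induction n, hn using Nat.le_induction generalizing θ with
  | base => exact ⟨θ 0, fun i h a => by obtain rfl : i = 0 := by omega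
                                        rw [blk_self]⟩
  | succ n hn ih =>
    obtain ⟨ψ, hψ⟩ := ih (fun i => θ (i + 1)) (fun i hi => hc _ (by omega))
      fun i j h1 h2 => hcomm _ _ (by omega) (by omega)
    obtain ⟨Φ, h1, h2⟩ := step hF (Or.inl ⟨rfl, hq, hn⟩) ψ (θ 0)
      (fun a => by rw [hc 0 (by omega), ← hψ 0 hn, blk_blk]) fun j h1 h2 a b hb => by
        obtain rfl : j = 2 := by omega
        refine commute_of_gen_fix hF (k := 2) (j := 1) (by omega) (by omega) ψ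
          (fun i hi hj c => ?_) fun i hi => hb i (by omega)
        obtain ⟨i, rfl⟩ : ∃ i', i = i' + 1 := ⟨i - 1, by omega⟩
        rw [← blk_blk (by omega : 1 + 2 ≤ 3) (by omega), hψ]
        exact hcomm _ _ (by omega) (by omega) a c
    refine ⟨Φ, fun i h a => ?_⟩
    rcases i with _ | i
    · exact h2 a
    · rw [← hψ i (by omega), ← h1, blk_blk, blk_congr _ (add_comm 1 i)]

theorem chain4 (hn : 4 ≤ n) (η : ℕ → (SU 4 F q →* Γ))
    (hc : ∀ i, i + 5 ≤ n → ∀ a, η i (blk 3 4 1 (by omega) a) = η (i + 1) (blk 3 4 0 (by omega) a))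
    (h2 : ∀ i j, i + 1 ≤ j → j + 4 ≤ n → ∀ a b,
      Commute (η i (blk 2 4 0 (by omega) a)) (η j (blk 3 4 1 (by omega) b)))
    (h3 : ∀ i j, i + 1 ≤ j → j + 4 ≤ n → ∀ a b,
      Commute (η i (blk 3 4 0 (by omega) a)) (η j (blk 2 4 2 (by omega) b)))
    (h3' : ∀ i j, i + 2 ≤ j → j + 4 ≤ n → ∀ a b,
      Commute (η i (blk 3 4 0 (by omega) a)) (η j (blk 3 4 1 (by omega) b))) :
    ∃ Φ : SU n F q →* Γ, ∀ i (h : i + 4 ≤ n) a, Φ (blk 4 n i h a) = η i a := by
  induction n, hn using Nat.le_induction generalizing η with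
  | base => exact ⟨η 0, fun i h a => by obtain rfl : i = 0 := by omega
                                        rw [blk_self]⟩
  | succ n hn ih =>
    obtain ⟨ψ, hψ⟩ := ih (fun i => η (i + 1)) (fun i hi => hc _ (by omega))
      (fun i j h1 h => h2 _ _ (by omega) (by omega)) (fun i j h1 h => h3 _ _ (by omega) (by omega))
      fun i j h1 h => h3' _ _ (by omega) (by omega)
    obtain ⟨Φ, h1, h2⟩ := step hF (Or.inr ⟨rfl, hn⟩) ψ (η 0)
      (fun a => by rw [hc 0 (by omega), ← hψ 0 hn, blk_blk]) fun j h1 h4 a b hb => by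
        obtain rfl | rfl : j = 2 ∨ j = 3 := by omega
        · refine commute_of_gen_fix hF (k := 3) (j := 1) (by omega) (by omega) ψ
            (fun i hi hj c => ?_) fun i hi => hb i (by omega)
          obtain ⟨i, rfl⟩ : ∃ i', i = i' + 1 := ⟨i - 1, by omega⟩
          rw [← blk_blk (by omega : 1 + 3 ≤ 4) (by omega), hψ]
          exact h2 _ _ (by omega) (by omega) a c
        rcases hn.eq_or_lt with rfl | hn'
        · obtain ⟨c, rfl⟩ := (mem_range_blk' hF (k := 2) (i := 2) (g := b) (by omega)).2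
            fun i hi => by
              rcases hi with hi | hi
              · exact hb i (by omega)
              · rw [en_of_le (by omega), smul_zero]
          rw [← blk_self (blk 2 4 2 _ c), hψ]
          exact h3 _ _ (by omega) (by omega) a c
        · refine commute_of_gen_fix hF (k := 3) (j := 2) (by omega) (by omega) ψ
            (fun i hi hj c => ?_) fun i hi => hb i (by omega)
          obtain ⟨i, rfl⟩ : ∃ i', i = i' + 1 := ⟨i - 1, by omega⟩
          rw [← blk_blk (by omega : 1 + 3 ≤ 4) (by omega), hψ]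
          exact h3' _ _ (by omega) (by omega) a c
    refine ⟨Φ, fun i h a => ?_⟩
    rcases i with _ | i
    · exact h2 a
    · rw [← hψ i (by omega), ← h1, blk_blk, blk_congr _ (add_comm 1 i)]

theorem chain4' (hq : 2 < q) (hn : 4 ≤ n) (χ : ℕ → (SU 2 F q →* Γ)) (η : ℕ → (SU 4 F q →* Γ))
    (hη : ∀ i, i + 4 ≤ n → ∀ t (ht : t + 2 ≤ 4) a, η i (blk 2 4 t ht a) = χ (i + t) a)
    (hχ : ∀ i j, i + 2 ≤ j → j + 2 ≤ n → ∀ a b, Commute (χ i a) (χ j b)) :
    ∃ Φ : SU n F q →* Γ, ∀ i (h : i + 4 ≤ n) a, Φ (blk 4 n i h a) = η i a := by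
  have key : ∀ j, j + 4 ≤ n → ∀ t (ht : t + 3 ≤ 4) (x : Γ),
      (∀ s, s ≤ 1 → ∀ c, Commute x (χ (j + (t + s)) c)) → ∀ b, Commute x (η j (blk 3 4 t ht b)) :=
    fun j hj t ht x h b => commute_of_gen hF (k := 2) (by omega) (by omega)
      ((η j).comp (blk 3 4 t ht)) (fun s hs c => by
        rw [MonoidHom.comp_apply, blk_blk, hη j hj]; exact h s (by omega) c) b
  refine chain4 hF hn η (fun i hi a => ?_) (fun i j h1 h2 a b => ?_) (fun i j h1 h2 a b => ?_)
    fun i j h1 h2 a b => ?_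
  · refine hom_ext_blk hF (k := 2) (by omega) (by omega) (φ := (η i).comp (blk 3 4 1 _))
      (ψ := (η (i + 1)).comp (blk 3 4 0 _)) (fun t ht c => ?_) a
    rw [MonoidHom.comp_apply, MonoidHom.comp_apply, blk_blk, blk_blk, hη i (by omega),
      hη (i + 1) hi, show i + (1 + t) = i + 1 + (0 + t) by omega]
  · rw [hη i (by omega)]
    exact key j h2 _ _ _ (fun s hs c => hχ _ _ (by omega) (by omega) a c) b
  · rw [hη j h2]
    exact (key i (by omega) _ _ _ (fun s hs c => (hχ _ _ (by omega) (by omega) c b).symm) a).symm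
  · exact key j h2 _ _ _ (fun s hs c => (key i (by omega) _ _ _
      (fun s' hs' c' => (hχ _ _ (by omega) (by omega) c' c).symm) a).symm) b

end CfsgLib.Phan
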